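import Mathlib
/-!
Generators of the irrelevant ideal and algebra generators over degree zero.
-/
universe u v
open DirectSum

namespace Groth.Agent.GeomHt.Adjoin

variable {R : Type u} {A : Type v} [CommRing R] [CommRing A] [Algebra R A] (𝒜 : ℕ → Submodule R A)
  [GradedAlgebra 𝒜]

theorem zero_mem_adjoin (E : Set A) {a : A} (ha : a ∈ 𝒜 0) : a ∈ Algebra.adjoin (𝒜 0) E :=
  Subalgebra.algebraMap_mem _ (⟨a, ha⟩ : 𝒜 0)

theorem adjoin_eq_top_of_span {E : Set A} (hE : ∀ e ∈ E, ∃ d : ℕ, 0 < d ∧ e ∈ 𝒜 d)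
    (h : (HomogeneousIdeal.irrelevant 𝒜).toIdeal ≤ Ideal.span E) :
    Algebra.adjoin (𝒜 0) E = ⊤ := by
  classical
  have key : ∀ n, ∀ a ∈ 𝒜 n, a ∈ Algebra.adjoin (𝒜 0) E := by
    intro n
    induction n using Nat.strong_induction_on with
    | _ n ih =>
      intro a ha
      rcases Nat.eq_zero_or_pos n with rfl | hn
      · exact zero_mem_adjoin 𝒜 E ha
      · have hmem : a ∈ Submodule.span A E := h (HomogeneousIdeal.mem_irrelevant_of_mem 𝒜 hn ha)
        obtain ⟨N, c, g, hcg⟩ := Submodule.mem_span_set'.1 hmem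
        have hdec : a = ∑ i, (decompose 𝒜 (c i * (g i : A)) n : A) := by
          conv_lhs => rw [← decompose_of_mem_same 𝒜 ha, ← hcg]
          simp [decompose_sum, DFinsupp.finsetSum_apply]
        rw [hdec]
        refine sum_mem fun i _ => ?_
        obtain ⟨d, hd, hgd⟩ := hE _ (g i).2
        rw [coe_decompose_mul_of_right_mem 𝒜 n hgd]
        split_ifs with hdn
        · exact mul_mem (ih (n - d) (by omega) _ (SetLike.coe_mem _)) (Algebra.subset_adjoin (g i).2)
        · exact zero_mem _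
  rw [eq_top_iff]
  intro a _
  rw [← sum_support_decompose 𝒜 a]
  exact sum_mem fun i _ => key i _ (SetLike.coe_mem _)

theorem span_eq_of_adjoin {E : Set A} (hE : ∀ e ∈ E, ∃ d : ℕ, 0 < d ∧ e ∈ 𝒜 d)
    (h : Algebra.adjoin (𝒜 0) E = ⊤) :
    (HomogeneousIdeal.irrelevant 𝒜).toIdeal = Ideal.span E := by
  have hsub : Ideal.span E ≤ (HomogeneousIdeal.irrelevant 𝒜).toIdeal := Ideal.span_le.2 fun e he => by
    obtain ⟨d, hd, hed⟩ := hE e he
    exact HomogeneousIdeal.mem_irrelevant_of_mem 𝒜 hd hed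
  refine le_antisymm ?_ hsub
  intro x hx
  have key : ∀ y ∈ Algebra.adjoin (𝒜 0) E, y - GradedRing.projZeroRingHom 𝒜 y ∈ Ideal.span E := by
    intro y hy
    induction hy using Algebra.adjoin_induction with
    | mem e he =>
      have h0 : GradedRing.projZeroRingHom 𝒜 e = 0 := hsub (Ideal.subset_span he)
      rw [h0, sub_zero]; exact Ideal.subset_span he
    | algebraMap r =>
      have h0 : GradedRing.projZeroRingHom 𝒜 (r : A) = r := decompose_of_mem_same 𝒜 r.2
      change (r : A) - GradedRing.projZeroRingHom 𝒜 (r : A) ∈ _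
      rw [h0, sub_self]; exact zero_mem _
    | add a b _ _ ha hb =>
      rw [map_add, add_sub_add_comm]
      exact add_mem ha hb
    | mul a b _ _ ha hb =>
      have e : a * b - GradedRing.projZeroRingHom 𝒜 (a * b) =
          (a - GradedRing.projZeroRingHom 𝒜 a) * b +
            GradedRing.projZeroRingHom 𝒜 a * (b - GradedRing.projZeroRingHom 𝒜 b) := by
        rw [map_mul]; ring
      rw [e]
      exact add_mem (Ideal.mul_mem_right _ _ ha) (Ideal.mul_mem_left _ _ hb)
  have h1 := key x (h.ge trivial)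
  rwa [show GradedRing.projZeroRingHom 𝒜 x = 0 from hx, sub_zero] at h1

/-- positive-degree components of a finite set of elements -/
theorem exists_components (S : Finset A) : ∃ E : Finset A, (∀ e ∈ E, ∃ d : ℕ, 0 < d ∧ e ∈ 𝒜 d) ∧
    (∀ s ∈ S, s - GradedRing.projZeroRingHom 𝒜 s ∈ Ideal.span (E : Set A) ∧
      s ∈ Algebra.adjoin (𝒜 0) (E : Set A)) ∧
    ∀ I : Ideal A, I.IsHomogeneous 𝒜 → ((S : Set A) ⊆ I) → (E : Set A) ⊆ I := by
  classical
  refine ⟨S.biUnion fun s => ((decompose 𝒜 s).support.filter (0 < ·)).image fun i => (decompose 𝒜 s i : A),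
    ?_, ?_, ?_⟩
  · intro e he
    simp only [Finset.mem_biUnion, Finset.mem_image, Finset.mem_filter] at he
    obtain ⟨s, -, i, ⟨-, hi⟩, rfl⟩ := he
    exact ⟨i, hi, SetLike.coe_mem _⟩
  · intro s hs
    have hmem : ∀ i ∈ (decompose 𝒜 s).support, 0 < i → (decompose 𝒜 s i : A) ∈
        ((S.biUnion fun s => ((decompose 𝒜 s).support.filter (0 < ·)).image
          fun i => (decompose 𝒜 s i : A) : Finset A) : Set A) := by
      intro i hi h0
      simp only [Finset.coe_biUnion, Set.mem_iUnion, Finset.coe_image, Set.mem_image]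
      exact ⟨s, hs, i, Finset.mem_filter.2 ⟨hi, h0⟩, rfl⟩
    constructor
    · have e : s - GradedRing.projZeroRingHom 𝒜 s =
          ∑ i ∈ (decompose 𝒜 s).support.filter (0 < ·), (decompose 𝒜 s i : A) := by
        rw [sub_eq_iff_eq_add]
        conv_lhs => rw [← sum_support_decompose 𝒜 s,
          ← Finset.sum_filter_add_sum_filter_not _ (0 < ·)]
        congr 1
        rw [Finset.sum_eq_single 0]
        · rfl
        · intro b hb hb0
          simp only [Finset.mem_filter, not_lt, Nat.le_zero] at hb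
          exact absurd hb.2 hb0
        · intro h0
          simp only [Finset.mem_filter, lt_self_iff_false, not_false_eq_true, and_true,
            DFinsupp.mem_support_iff, not_not] at h0
          simp [h0]
      rw [e]
      refine Submodule.sum_mem _ fun i hi => Ideal.subset_span ?_
      rw [Finset.mem_filter] at hi
      exact hmem i hi.1 hi.2
    · have hsum : ∑ i ∈ (decompose 𝒜 s).support, (decompose 𝒜 s i : A) ∈ Algebra.adjoin (𝒜 0)
          (((S.biUnion fun s => ((decompose 𝒜 s).support.filter (0 < ·)).image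
            fun i => (decompose 𝒜 s i : A)) : Finset A) : Set A) := by
        refine sum_mem fun i hi => ?_
        rcases Nat.eq_zero_or_pos i with rfl | h0
        · exact zero_mem_adjoin 𝒜 _ (SetLike.coe_mem _)
        · exact Algebra.subset_adjoin (hmem i hi h0)
      rwa [sum_support_decompose] at hsum
  · intro I hI hS e he
    simp only [Finset.coe_biUnion, Set.mem_iUnion, Finset.coe_image, Set.mem_image] at he
    obtain ⟨s, hs, i, -, rfl⟩ := he
    exact hI i (hS hs)

theorem fg_iff_finiteType :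
    (HomogeneousIdeal.irrelevant 𝒜).toIdeal.FG ↔ Algebra.FiniteType (𝒜 0) A := by
  classical
  constructor
  · rintro ⟨S, hS⟩
    obtain ⟨E, hE, hES, -⟩ := exists_components 𝒜 S
    refine ⟨⟨E, adjoin_eq_top_of_span 𝒜 hE ?_⟩⟩
    rw [← hS]
    refine Ideal.span_le.2 fun s hs => ?_
    have h := (hES s hs).1
    have hmem : s ∈ (HomogeneousIdeal.irrelevant 𝒜).toIdeal := hS ▸ Submodule.subset_span hs
    rwa [show GradedRing.projZeroRingHom 𝒜 s = 0 from hmem, sub_zero] at h
  · rintro ⟨⟨S, hS⟩⟩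
    obtain ⟨E, hE, hES, -⟩ := exists_components 𝒜 S
    refine ⟨E, (span_eq_of_adjoin 𝒜 hE ?_).symm⟩
    rw [eq_top_iff, ← hS]
    exact Algebra.adjoin_le fun s hs => (hES s hs).2

theorem isNoetherian_iff :
    IsNoetherianRing A ↔ IsNoetherianRing (𝒜 0) ∧ Algebra.FiniteType (𝒜 0) A := by
  refine ⟨fun h => ⟨inferInstance, (fg_iff_finiteType 𝒜).1 (IsNoetherian.noetherian _)⟩, ?_⟩
  rintro ⟨_, _⟩
  exact Algebra.FiniteType.isNoetherianRing (𝒜 0) A

end Groth.Agent.GeomHt.Adjoin
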