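import Groth.Prelude.Def_W4c2ratsingkovacsGH
import Groth.Agent.GrAvoid.Basic
import Mathlib

/-! Homogeneous systems of parameters in every chart of `Proj`. -/

set_option autoImplicit false
set_option maxHeartbeats 1000000

namespace Groth.Agent.GeomHt

universe u v

open HomogeneousLocalization AlgebraicGeometry.ProjIsoSpecTopComponent.FromSpec W4c2ratsingkovacs

variable {R : Type u} {A : Type v} [CommRing R] [CommRing A] [Algebra R A] (𝒜 : ℕ → Submodule R A) [GradedRing 𝒜]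
  {f : A} {m : ℕ} (hf : f ∈ 𝒜 m) (hm : 0 < m)

/-- the degree zero fraction of `z`. -/
noncomputable def elt {d : ℕ} {z : A} (hz : z ∈ 𝒜 d) : Away 𝒜 f :=
  HomogeneousLocalization.mk ⟨m * d, ⟨z ^ m, SetLike.pow_mem_graded m hz⟩,
    ⟨f ^ d, by rw [mul_comm]; exact SetLike.pow_mem_graded d hf⟩, ⟨_, rfl⟩⟩

theorem mem_locIdeal_iff (K : Ideal A) (x : Away 𝒜 f) : x ∈ locIdeal 𝒜 K f ↔ x.val ∈ K.map (algebraMap A (Localization.Away f)) := Iff.rfl

theorem mk_mem_map_iff (K : Ideal A) (a : A) (s : Submonoid.powers f) :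
    Localization.mk a s ∈ K.map (algebraMap A (Localization.Away f)) ↔ ∃ l : ℕ, f ^ l * a ∈ K := by
  rw [Localization.mk_eq_mk', IsLocalization.mk'_mem_map_algebraMap_iff]
  constructor
  · rintro ⟨_, ⟨l, rfl⟩, h⟩; exact ⟨l, h⟩
  · rintro ⟨l, h⟩; exact ⟨f ^ l, ⟨l, rfl⟩, h⟩

theorem elt_mem_locIdeal_iff (Q : Ideal A) [Q.IsPrime] (hfQ : f ∉ Q) {d : ℕ} {z : A} (hz : z ∈ 𝒜 d) (hm : 0 < m) :
    elt 𝒜 hf hz ∈ locIdeal 𝒜 Q f ↔ z ∈ Q := by
  rw [mem_locIdeal_iff, elt, HomogeneousLocalization.val_mk, mk_mem_map_iff]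
  constructor
  · rintro ⟨l, h⟩
    exact Ideal.IsPrime.mem_of_pow_mem ‹_› m (((‹Q.IsPrime›).mem_or_mem h).resolve_left fun h' =>
      hfQ (Ideal.IsPrime.mem_of_pow_mem ‹_› l h'))
  · exact fun h => ⟨0, Ideal.mul_mem_left _ _ (Ideal.pow_mem_of_mem Q h m hm)⟩

theorem elt_mem_locIdeal (K : Ideal A) {d : ℕ} {z : A} (hz : z ∈ 𝒜 d) (hzK : z ∈ K) (hm : 0 < m) :
    elt 𝒜 hf hz ∈ locIdeal 𝒜 K f := by
  rw [mem_locIdeal_iff, elt, HomogeneousLocalization.val_mk, mk_mem_map_iff]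
  exact ⟨0, Ideal.mul_mem_left _ _ (Ideal.pow_mem_of_mem K hzK m hm)⟩

include hf in
theorem locIdeal_ne_top (J : Ideal A) (hfJ : f ∉ J.radical) : locIdeal 𝒜 J f ≠ ⊤ := by
  intro h
  have h1 : (1 : Away 𝒜 f) ∈ locIdeal 𝒜 J f := h ▸ Submodule.mem_top
  rw [mem_locIdeal_iff, HomogeneousLocalization.val_one, ← Localization.mk_one, mk_mem_map_iff] at h1
  obtain ⟨l, hl⟩ := h1
  exact hfJ ⟨l, by rwa [mul_one] at hl⟩

section prime

variable (q : PrimeSpectrum (Away 𝒜 f))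

theorem elt_mem_iff {d : ℕ} {z : A} (hz : z ∈ 𝒜 d) :
    z ∈ carrier.asIdeal hf hm q ↔ elt 𝒜 hf hz ∈ q.asIdeal :=
  mem_carrier_iff_of_mem hf hm q z hz

theorem locIdeal_le {K : Ideal A} (hK : K ≤ carrier.asIdeal hf hm q) : locIdeal 𝒜 K f ≤ q.asIdeal := by
  intro x hx
  obtain ⟨z, rfl⟩ := HomogeneousLocalization.mk_surjective x
  rw [mem_locIdeal_iff, HomogeneousLocalization.val_mk, mk_mem_map_iff] at hx
  obtain ⟨l, hl⟩ := hx
  haveI := carrier.asIdeal.prime hf hm q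
  refine (num_mem_carrier_iff hf hm q z).1 ?_
  exact ((carrier.asIdeal.prime hf hm q).mem_or_mem (hK hl)).resolve_left fun h =>
    carrier.denom_notMem hf hm q ((carrier.asIdeal.prime hf hm q).mem_of_pow_mem l h)

end prime

theorem locIdeal_mono {K L : Ideal A} (h : K ≤ L) : locIdeal 𝒜 K f ≤ locIdeal 𝒜 L f :=
  Ideal.comap_mono (Ideal.map_mono h)

theorem locIdeal_isPrime (Q : Ideal A) [Q.IsPrime] (hfQ : f ∉ Q) : (locIdeal 𝒜 Q f).IsPrime := by
  have hd : Disjoint (Submonoid.powers f : Set A) (Q : Set A) := by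
    rw [Set.disjoint_left]; rintro _ ⟨l, rfl⟩ h; exact hfQ (Ideal.IsPrime.mem_of_pow_mem ‹_› l h)
  haveI := IsLocalization.isPrime_of_isPrime_disjoint (Submonoid.powers f) (Localization.Away f) Q ‹_› hd
  exact Ideal.comap_isPrime _ _

/-- Homogeneous elements cutting by one in every chart. -/
structure Good (J : Ideal A) (P : Finset (Ideal A)) (zs : List A) : Prop where
  mem : ∀ z ∈ zs, (∃ n : ℕ, 0 < n ∧ z ∈ 𝒜 n) ∧ z ∈ J ∧ ∀ q ∈ P, z ∉ q
  avoid : ∀ (j : ℕ) (hj : j < zs.length), ∀ Q ∈ (Ideal.ofList (zs.take j)).minimalPrimes,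
    ¬ J ≤ Q → ¬ (HomogeneousIdeal.irrelevant 𝒜).toIdeal ≤ Q → zs[j] ∉ Q

variable [IsNoetherianRing A]

theorem exists_good (J : Ideal A) (hJ : J.IsHomogeneous 𝒜) (P : Finset (Ideal A))
    (hP : ∀ q ∈ P, q.IsPrime ∧ ¬ J ≤ q ∧ ¬ (HomogeneousIdeal.irrelevant 𝒜).toIdeal ≤ q) :
    ∀ k : ℕ, ∃ zs : List A, zs.length = k ∧ Good 𝒜 J P zs := by
  classical
  intro k
  induction k with
  | zero => exact ⟨[], rfl, ⟨by simp, by simp⟩⟩
  | succ k ih =>
    obtain ⟨zs, hl, hz⟩ := ih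
    let S := ((Ideal.finite_minimalPrimes_of_isNoetherianRing A (Ideal.ofList zs)).toFinset).filter
      fun Q => ¬ J ≤ Q ∧ ¬ (HomogeneousIdeal.irrelevant 𝒜).toIdeal ≤ Q
    obtain ⟨z, n, hn, hzn, hzJ, hzP⟩ := GrAvoid.exists_notMem 𝒜 J hJ (P ∪ S) fun q hq => by
      rcases Finset.mem_union.1 hq with h | h
      · exact ⟨(hP q h).1, (hP q h).2.2, (hP q h).2.1⟩
      · obtain ⟨h1, h2, h3⟩ := Finset.mem_filter.1 h
        exact ⟨((Set.Finite.mem_toFinset _).1 h1).1.1, h3, h2⟩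
    refine ⟨zs ++ [z], by simp [hl], ⟨fun w hw => ?_, fun j hj Q hQ h1 h2 => ?_⟩⟩
    · rcases List.mem_append.1 hw with h | h
      · exact hz.mem w h
      · obtain rfl : w = z := by simpa using h
        exact ⟨⟨n, hn, hzn⟩, hzJ, fun q hq => hzP q (Finset.mem_union_left _ hq)⟩
    · rw [List.length_append, List.length_singleton] at hj
      rw [List.take_append_of_le_length (by omega)] at hQ
      rcases Nat.lt_or_ge j zs.length with h | h
      · rw [List.getElem_append_left h]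
        exact hz.avoid j h Q hQ h1 h2
      · obtain rfl : j = zs.length := by omega
        rw [List.take_length] at hQ
        rw [List.getElem_append_right le_rfl]
        simp only [Nat.sub_self, List.getElem_cons_zero]
        exact hzP Q (Finset.mem_union_right _ (Finset.mem_filter.2 ⟨(Set.Finite.mem_toFinset _).2 hQ, h1, h2⟩))

include hf hm in
theorem le_height_of_le {J : Ideal A} {P : Finset (Ideal A)} {zs : List A} (hz : Good 𝒜 J P zs) {h : ℕ}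
    (hh : geomHeight 𝒜 J f = h) : ∀ j, j ≤ zs.length → j ≤ h → ∀ (q : Ideal (Away 𝒜 f)) [q.IsPrime],
      locIdeal 𝒜 (Ideal.ofList (zs.take j)) f ≤ q → (j : ℕ∞) ≤ q.height := by
  intro j
  induction j with
  | zero => intro _ _ q _ _; simp
  | succ j ih =>
    intro hj hjh q _ hq
    have hjl : j < zs.length := by omega
    have hle : Ideal.ofList (zs.take j) ≤ Ideal.ofList (zs.take (j + 1)) :=
      Ideal.span_mono fun x hx => List.take_subset_take_left zs (Nat.le_succ j) hx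
    obtain ⟨q', hq', hq'q⟩ := Ideal.exists_minimalPrimes_le ((locIdeal_mono 𝒜 hle).trans hq)
    haveI := hq'.1.1
    let Qc := carrier.asIdeal hf hm ⟨q', ‹_›⟩
    haveI : Qc.IsPrime := carrier.asIdeal.prime hf hm _
    have hQc : Ideal.ofList (zs.take j) ≤ Qc := Ideal.span_le.2 fun z hzj => by
      obtain ⟨⟨d, -, hd⟩, -, -⟩ := hz.mem z (List.mem_of_mem_take hzj)
      exact (elt_mem_iff 𝒜 hf hm _ hd).2 (hq'.1.2 (elt_mem_locIdeal 𝒜 hf _ hd (Ideal.subset_span hzj) hm))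
    obtain ⟨Q, hQ, hQQc⟩ := Ideal.exists_minimalPrimes_le hQc
    haveI := hQ.1.1
    have hfQ : f ∉ Q := fun h' => carrier.denom_notMem hf hm _ (hQQc h')
    haveI := locIdeal_isPrime 𝒜 Q hfQ
    have hQeq : locIdeal 𝒜 Q f = q' := le_antisymm (locIdeal_le 𝒜 hf hm ⟨q', ‹_›⟩ hQQc)
      (hq'.2 ⟨inferInstance, locIdeal_mono 𝒜 hQ.1.2⟩ (locIdeal_le 𝒜 hf hm ⟨q', ‹_›⟩ hQQc))
    by_cases hJQ : J ≤ Q
    · have h1 : ((h : ℕ) : ℕ∞) ≤ q.height := hh ▸
        Ideal.height_mono ((locIdeal_mono 𝒜 hJQ).trans (hQeq.le.trans hq'q))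
      exact le_trans (Nat.cast_le.2 hjh) h1
    have hirr : ¬ (HomogeneousIdeal.irrelevant 𝒜).toIdeal ≤ Q := fun h' =>
      hfQ (h' ((HomogeneousIdeal.mem_irrelevant_iff 𝒜 f).2 (DirectSum.decompose_of_mem_ne 𝒜 hf hm.ne')))
    have hzQ := hz.avoid j hjl Q hQ hJQ hirr
    obtain ⟨⟨d, -, hd⟩, -, -⟩ := hz.mem _ (List.getElem_mem hjl)
    have hmem : elt 𝒜 hf hd ∈ q := hq (elt_mem_locIdeal 𝒜 hf _ hd (Ideal.subset_span (List.mem_take_iff_getElem.2 ⟨j, by omega, rfl⟩)) hm)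
    have hnm : elt 𝒜 hf hd ∉ q' := fun h' => hzQ ((elt_mem_locIdeal_iff 𝒜 hf Q hfQ hd hm).1 (hQeq ▸ h'))
    have hlt : q' < q := lt_of_le_of_ne hq'q fun h' => hnm (h' ▸ hmem)
    have h1 := ih (by omega) (by omega) q' hq'.1.2
    rw [show q.height = _ from PrimeSpectrum.height_eq_orderHeight ⟨q, ‹_›⟩, Nat.cast_succ]
    rw [show q'.height = _ from PrimeSpectrum.height_eq_orderHeight ⟨q', ‹_›⟩] at h1
    exact (add_le_add h1 le_rfl).trans (Order.height_add_one_le (show (⟨q', ‹_›⟩ : PrimeSpectrum (Away 𝒜 f)) < ⟨q, ‹_›⟩ from hlt))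

include hf hm in
theorem height_le [IsNoetherianRing (Away 𝒜 f)] {J : Ideal A} {P : Finset (Ideal A)} {zs : List A}
    (hz : Good 𝒜 J P zs) (hfJ : f ∉ J.radical) (j : ℕ) (hj : j ≤ zs.length) :
    (locIdeal 𝒜 (Ideal.ofList (zs.take j)) f).height ≤ j := by
  classical
  have hzj : ∀ i : Fin j, ∃ d, zs[i.1] ∈ 𝒜 d := fun i => let ⟨d, _, hd⟩ := (hz.mem _ (List.getElem_mem _)).1; ⟨d, hd⟩
  choose d hd using hzj
  let s : Finset (Away 𝒜 f) := Finset.univ.image fun i => elt 𝒜 hf (hd i)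
  have hmem : ∀ i : Fin j, zs[i.1] ∈ zs.take j := fun i => List.mem_take_iff_getElem.2 ⟨i.1, by omega, rfl⟩
  have hs : Ideal.span (s : Set (Away 𝒜 f)) ≤ locIdeal 𝒜 (Ideal.ofList (zs.take j)) f := Ideal.span_le.2 fun x hx => by
    obtain ⟨i, -, rfl⟩ := Finset.mem_image.1 hx
    exact elt_mem_locIdeal 𝒜 hf _ (hd i) (Ideal.subset_span (hmem i)) hm
  have hne : Ideal.span (s : Set (Away 𝒜 f)) ≠ ⊤ := fun h => locIdeal_ne_top 𝒜 hf J hfJ (top_le_iff.1 (h ▸ hs.trans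
    (locIdeal_mono 𝒜 (Ideal.span_le.2 fun z hz' => (hz.mem z (List.mem_of_mem_take hz')).2.1))))
  obtain ⟨q, hqmax, hsq⟩ := Ideal.exists_le_maximal _ hne
  obtain ⟨q', hq', -⟩ := Ideal.exists_minimalPrimes_le (J := q) hsq
  haveI := hq'.1.1
  have hle : locIdeal 𝒜 (Ideal.ofList (zs.take j)) f ≤ q' := locIdeal_le 𝒜 hf hm ⟨q', ‹_›⟩ (Ideal.span_le.2 fun z hz' => by
    obtain ⟨i, hi, rfl⟩ := List.mem_take_iff_getElem.1 hz'
    exact (elt_mem_iff 𝒜 hf hm _ (hd ⟨i, by omega⟩)).2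
      (hq'.1.2 (Ideal.subset_span (Finset.mem_image.2 ⟨⟨i, by omega⟩, Finset.mem_univ _, rfl⟩))))
  refine (Ideal.height_mono hle).trans ((Ideal.height_le_card_of_mem_minimalPrimes_span_finset hq').trans ?_)
  exact_mod_cast Finset.card_image_le.trans (by simp)

end Groth.Agent.GeomHt
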